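import Cfsg.Agent.Lib.ToddCox.O73T.Data0
set_option autoImplicit false
set_option maxRecDepth 100000
namespace Cfsg.Agent.Lib.ToddCox.O73T
def eT_1_3 (j : ℕ) : ℕ := bif Nat.blt j 2 then E_1 else E_2
def eT_0_3 (j : ℕ) : ℕ := bif Nat.blt j 1 then E_0 else (eT_1_3 j)
def eT_4_6 (j : ℕ) : ℕ := bif Nat.blt j 5 then E_4 else E_5
def eT_3_6 (j : ℕ) : ℕ := bif Nat.blt j 4 then E_3 else (eT_4_6 j)
def eT_0_6 (j : ℕ) : ℕ := bif Nat.blt j 3 then (eT_0_3 j) else (eT_3_6 j)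
def eT_7_9 (j : ℕ) : ℕ := bif Nat.blt j 8 then E_7 else E_8
def eT_6_9 (j : ℕ) : ℕ := bif Nat.blt j 7 then E_6 else (eT_7_9 j)
def eT_10_12 (j : ℕ) : ℕ := bif Nat.blt j 11 then E_10 else E_11
def eT_9_12 (j : ℕ) : ℕ := bif Nat.blt j 10 then E_9 else (eT_10_12 j)
def eT_6_12 (j : ℕ) : ℕ := bif Nat.blt j 9 then (eT_6_9 j) else (eT_9_12 j)
def eT_0_12 (j : ℕ) : ℕ := bif Nat.blt j 6 then (eT_0_6 j) else (eT_6_12 j)
def eT_13_15 (j : ℕ) : ℕ := bif Nat.blt j 14 then E_13 else E_14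
def eT_12_15 (j : ℕ) : ℕ := bif Nat.blt j 13 then E_12 else (eT_13_15 j)
def eT_16_18 (j : ℕ) : ℕ := bif Nat.blt j 17 then E_16 else E_17
def eT_15_18 (j : ℕ) : ℕ := bif Nat.blt j 16 then E_15 else (eT_16_18 j)
def eT_12_18 (j : ℕ) : ℕ := bif Nat.blt j 15 then (eT_12_15 j) else (eT_15_18 j)
def eT_19_21 (j : ℕ) : ℕ := bif Nat.blt j 20 then E_19 else E_20
def eT_18_21 (j : ℕ) : ℕ := bif Nat.blt j 19 then E_18 else (eT_19_21 j)
def eT_21_23 (j : ℕ) : ℕ := bif Nat.blt j 22 then E_21 else E_22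
def eT_23_25 (j : ℕ) : ℕ := bif Nat.blt j 24 then E_23 else E_24
def eT_21_25 (j : ℕ) : ℕ := bif Nat.blt j 23 then (eT_21_23 j) else (eT_23_25 j)
def eT_18_25 (j : ℕ) : ℕ := bif Nat.blt j 21 then (eT_18_21 j) else (eT_21_25 j)
def eT_12_25 (j : ℕ) : ℕ := bif Nat.blt j 18 then (eT_12_18 j) else (eT_18_25 j)
def eT_0_25 (j : ℕ) : ℕ := bif Nat.blt j 12 then (eT_0_12 j) else (eT_12_25 j)
def eT (j : ℕ) : ℕ := (eT_0_25 j)
noncomputable def chunkF (h : ℕ) : ℕ := Nat.rec (motive := fun _ => ℕ) (eT 0) (fun n _ => eT (Nat.succ n)) h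
noncomputable def Eo (r : ℕ) : ℕ := Nat.land (Nat.shiftRight (chunkF (Nat.shiftRight r 8)) (Nat.mul (Nat.land r 255) 54)) 18014398509481983
def invT : ℕ := 0xffef7cefae78df6d74cf2c70beeb6caeaa689e69648e28607de75c6da6585d65544d24503ce34c2ca2481c61440c2040
def inv (y : ℕ) : ℕ := invOf invT y
def Wt_0_2 (j : ℕ) : List ℕ := bif Nat.blt j 1 then [nat_lit 0, nat_lit 7, nat_lit 0, nat_lit 7] else [nat_lit 1, nat_lit 7, nat_lit 1, nat_lit 7]
def Wt_3_5 (j : ℕ) : List ℕ := bif Nat.blt j 4 then [nat_lit 4, nat_lit 7, nat_lit 4, nat_lit 7] else [nat_lit 5, nat_lit 7, nat_lit 5, nat_lit 7]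
def Wt_2_5 (j : ℕ) : List ℕ := bif Nat.blt j 3 then [nat_lit 3, nat_lit 7, nat_lit 3, nat_lit 7] else (Wt_3_5 j)
def Wt_0_5 (j : ℕ) : List ℕ := bif Nat.blt j 2 then (Wt_0_2 j) else (Wt_2_5 j)
def Wt_5_7 (j : ℕ) : List ℕ := bif Nat.blt j 6 then [nat_lit 6, nat_lit 7, nat_lit 6, nat_lit 7] else [nat_lit 0, nat_lit 2, nat_lit 0, nat_lit 2]
def Wt_8_10 (j : ℕ) : List ℕ := bif Nat.blt j 9 then [nat_lit 4, nat_lit 2, nat_lit 4, nat_lit 2] else [nat_lit 5, nat_lit 2, nat_lit 5, nat_lit 2]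
def Wt_7_10 (j : ℕ) : List ℕ := bif Nat.blt j 8 then [nat_lit 3, nat_lit 2, nat_lit 3, nat_lit 2] else (Wt_8_10 j)
def Wt_5_10 (j : ℕ) : List ℕ := bif Nat.blt j 7 then (Wt_5_7 j) else (Wt_7_10 j)
def Wt_0_10 (j : ℕ) : List ℕ := bif Nat.blt j 5 then (Wt_0_5 j) else (Wt_5_10 j)
def Wt_10_12 (j : ℕ) : List ℕ := bif Nat.blt j 11 then [nat_lit 6, nat_lit 2, nat_lit 6, nat_lit 2] else [nat_lit 7, nat_lit 2, nat_lit 7, nat_lit 2, nat_lit 7, nat_lit 2]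
def Wt_13_15 (j : ℕ) : List ℕ := bif Nat.blt j 14 then [nat_lit 3, nat_lit 1, nat_lit 3, nat_lit 1] else [nat_lit 4, nat_lit 1, nat_lit 4, nat_lit 1]
def Wt_12_15 (j : ℕ) : List ℕ := bif Nat.blt j 13 then [nat_lit 2, nat_lit 1, nat_lit 2, nat_lit 1, nat_lit 2, nat_lit 1] else (Wt_13_15 j)
def Wt_10_15 (j : ℕ) : List ℕ := bif Nat.blt j 12 then (Wt_10_12 j) else (Wt_12_15 j)
def Wt_16_18 (j : ℕ) : List ℕ := bif Nat.blt j 17 then [nat_lit 6, nat_lit 1, nat_lit 6, nat_lit 1] else [nat_lit 7, nat_lit 1, nat_lit 7, nat_lit 1]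
def Wt_15_18 (j : ℕ) : List ℕ := bif Nat.blt j 16 then [nat_lit 5, nat_lit 1, nat_lit 5, nat_lit 1] else (Wt_16_18 j)
def Wt_19_21 (j : ℕ) : List ℕ := bif Nat.blt j 20 then [nat_lit 2, nat_lit 0, nat_lit 2, nat_lit 0] else [nat_lit 4, nat_lit 0, nat_lit 4, nat_lit 0]
def Wt_18_21 (j : ℕ) : List ℕ := bif Nat.blt j 19 then [nat_lit 1, nat_lit 0, nat_lit 1, nat_lit 0, nat_lit 1, nat_lit 0] else (Wt_19_21 j)
def Wt_15_21 (j : ℕ) : List ℕ := bif Nat.blt j 18 then (Wt_15_18 j) else (Wt_18_21 j)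
def Wt_10_21 (j : ℕ) : List ℕ := bif Nat.blt j 15 then (Wt_10_15 j) else (Wt_15_21 j)
def Wt_0_21 (j : ℕ) : List ℕ := bif Nat.blt j 10 then (Wt_0_10 j) else (Wt_10_21 j)
def Wt_21_23 (j : ℕ) : List ℕ := bif Nat.blt j 22 then [nat_lit 6, nat_lit 0, nat_lit 6, nat_lit 0] else [nat_lit 7, nat_lit 0, nat_lit 7, nat_lit 0]
def Wt_24_26 (j : ℕ) : List ℕ := bif Nat.blt j 25 then [nat_lit 1, nat_lit 3, nat_lit 1, nat_lit 3] else [nat_lit 2, nat_lit 3, nat_lit 2, nat_lit 3]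
def Wt_23_26 (j : ℕ) : List ℕ := bif Nat.blt j 24 then [nat_lit 0, nat_lit 3, nat_lit 0, nat_lit 3, nat_lit 0, nat_lit 3] else (Wt_24_26 j)
def Wt_21_26 (j : ℕ) : List ℕ := bif Nat.blt j 23 then (Wt_21_23 j) else (Wt_23_26 j)
def Wt_27_29 (j : ℕ) : List ℕ := bif Nat.blt j 28 then [nat_lit 7, nat_lit 3, nat_lit 7, nat_lit 3] else [nat_lit 0, nat_lit 5, nat_lit 0, nat_lit 5, nat_lit 0, nat_lit 5]
def Wt_26_29 (j : ℕ) : List ℕ := bif Nat.blt j 27 then [nat_lit 6, nat_lit 3, nat_lit 6, nat_lit 3] else (Wt_27_29 j)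
def Wt_30_32 (j : ℕ) : List ℕ := bif Nat.blt j 31 then [nat_lit 2, nat_lit 5, nat_lit 2, nat_lit 5] else [nat_lit 4, nat_lit 5, nat_lit 4, nat_lit 5]
def Wt_29_32 (j : ℕ) : List ℕ := bif Nat.blt j 30 then [nat_lit 1, nat_lit 5, nat_lit 1, nat_lit 5] else (Wt_30_32 j)
def Wt_26_32 (j : ℕ) : List ℕ := bif Nat.blt j 29 then (Wt_26_29 j) else (Wt_29_32 j)
def Wt_21_32 (j : ℕ) : List ℕ := bif Nat.blt j 26 then (Wt_21_26 j) else (Wt_26_32 j)
def Wt_32_34 (j : ℕ) : List ℕ := bif Nat.blt j 33 then [nat_lit 7, nat_lit 5, nat_lit 7, nat_lit 5] else [nat_lit 0, nat_lit 4, nat_lit 0, nat_lit 4]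
def Wt_35_37 (j : ℕ) : List ℕ := bif Nat.blt j 36 then [nat_lit 2, nat_lit 4, nat_lit 2, nat_lit 4] else [nat_lit 3, nat_lit 4, nat_lit 3, nat_lit 4, nat_lit 3, nat_lit 4]
def Wt_34_37 (j : ℕ) : List ℕ := bif Nat.blt j 35 then [nat_lit 1, nat_lit 4, nat_lit 1, nat_lit 4] else (Wt_35_37 j)
def Wt_32_37 (j : ℕ) : List ℕ := bif Nat.blt j 34 then (Wt_32_34 j) else (Wt_34_37 j)
def Wt_38_40 (j : ℕ) : List ℕ := bif Nat.blt j 39 then [nat_lit 7, nat_lit 4, nat_lit 7, nat_lit 4] else [nat_lit 3, nat_lit 5, nat_lit 3, nat_lit 5]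
def Wt_37_40 (j : ℕ) : List ℕ := bif Nat.blt j 38 then [nat_lit 6, nat_lit 4, nat_lit 6, nat_lit 4] else (Wt_38_40 j)
def Wt_41_43 (j : ℕ) : List ℕ := bif Nat.blt j 42 then [nat_lit 1, nat_lit 6, nat_lit 1, nat_lit 6] else [nat_lit 2, nat_lit 6, nat_lit 2, nat_lit 6]
def Wt_40_43 (j : ℕ) : List ℕ := bif Nat.blt j 41 then [nat_lit 0, nat_lit 6, nat_lit 0, nat_lit 6] else (Wt_41_43 j)
def Wt_37_43 (j : ℕ) : List ℕ := bif Nat.blt j 40 then (Wt_37_40 j) else (Wt_40_43 j)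
def Wt_32_43 (j : ℕ) : List ℕ := bif Nat.blt j 37 then (Wt_32_37 j) else (Wt_37_43 j)
def Wt_21_43 (j : ℕ) : List ℕ := bif Nat.blt j 32 then (Wt_21_32 j) else (Wt_32_43 j)
def Wt_0_43 (j : ℕ) : List ℕ := bif Nat.blt j 21 then (Wt_0_21 j) else (Wt_21_43 j)
def Wt_43_45 (j : ℕ) : List ℕ := bif Nat.blt j 44 then [nat_lit 4, nat_lit 6, nat_lit 4, nat_lit 6] else [nat_lit 5, nat_lit 6, nat_lit 5, nat_lit 6, nat_lit 5, nat_lit 6]
def Wt_46_48 (j : ℕ) : List ℕ := bif Nat.blt j 47 then [nat_lit 3, nat_lit 0, nat_lit 3, nat_lit 0, nat_lit 3, nat_lit 0] else [nat_lit 5, nat_lit 0, nat_lit 5, nat_lit 0, nat_lit 5, nat_lit 0]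
def Wt_45_48 (j : ℕ) : List ℕ := bif Nat.blt j 46 then [nat_lit 7, nat_lit 6, nat_lit 7, nat_lit 6] else (Wt_46_48 j)
def Wt_43_48 (j : ℕ) : List ℕ := bif Nat.blt j 45 then (Wt_43_45 j) else (Wt_45_48 j)
def Wt_49_51 (j : ℕ) : List ℕ := bif Nat.blt j 50 then [nat_lit 0, nat_lit 1, nat_lit 0, nat_lit 1, nat_lit 0, nat_lit 1] else [nat_lit 4, nat_lit 3, nat_lit 4, nat_lit 3, nat_lit 4, nat_lit 3]
def Wt_48_51 (j : ℕ) : List ℕ := bif Nat.blt j 49 then [nat_lit 3, nat_lit 6, nat_lit 3, nat_lit 6] else (Wt_49_51 j)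
def Wt_52_54 (j : ℕ) : List ℕ := bif Nat.blt j 53 then [nat_lit 1, nat_lit 2, nat_lit 1, nat_lit 2, nat_lit 1, nat_lit 2] else [nat_lit 6, nat_lit 5, nat_lit 6, nat_lit 5, nat_lit 6, nat_lit 5]
def Wt_51_54 (j : ℕ) : List ℕ := bif Nat.blt j 52 then [nat_lit 5, nat_lit 3, nat_lit 5, nat_lit 3] else (Wt_52_54 j)
def Wt_48_54 (j : ℕ) : List ℕ := bif Nat.blt j 51 then (Wt_48_51 j) else (Wt_51_54 j)
def Wt_43_54 (j : ℕ) : List ℕ := bif Nat.blt j 48 then (Wt_43_48 j) else (Wt_48_54 j)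
def Wt_54_56 (j : ℕ) : List ℕ := bif Nat.blt j 55 then [nat_lit 2, nat_lit 7, nat_lit 2, nat_lit 7, nat_lit 2, nat_lit 7] else [nat_lit 7, nat_lit 2, nat_lit 1, nat_lit 0, nat_lit 5, nat_lit 6, nat_lit 3, nat_lit 7, nat_lit 2, nat_lit 1, nat_lit 0, nat_lit 5, nat_lit 6, nat_lit 3, nat_lit 7, nat_lit 2, nat_lit 1, nat_lit 0, nat_lit 5, nat_lit 6, nat_lit 3, nat_lit 7, nat_lit 2, nat_lit 1, nat_lit 0, nat_lit 5, nat_lit 6, nat_lit 3, nat_lit 7, nat_lit 2, nat_lit 1, nat_lit 0, nat_lit 5, nat_lit 6, nat_lit 3, nat_lit 7, nat_lit 2, nat_lit 1, nat_lit 0, nat_lit 5, nat_lit 6, nat_lit 3, nat_lit 7, nat_lit 2, nat_lit 1, nat_lit 0, nat_lit 5, nat_lit 6, nat_lit 3, nat_lit 7, nat_lit 2, nat_lit 1, nat_lit 0, nat_lit 5, nat_lit 6, nat_lit 3, nat_lit 7, nat_lit 2, nat_lit 1, nat_lit 0, nat_lit 5, nat_lit 6, nat_lit 3]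
def Wt_57_59 (j : ℕ) : List ℕ := bif Nat.blt j 58 then [nat_lit 7, nat_lit 3, nat_lit 6, nat_lit 5, nat_lit 0, nat_lit 1, nat_lit 2, nat_lit 7, nat_lit 3, nat_lit 6, nat_lit 5, nat_lit 0, nat_lit 1, nat_lit 2, nat_lit 7, nat_lit 3, nat_lit 6, nat_lit 5, nat_lit 0, nat_lit 1, nat_lit 2, nat_lit 7, nat_lit 3, nat_lit 6, nat_lit 5, nat_lit 0, nat_lit 1, nat_lit 2, nat_lit 7, nat_lit 3, nat_lit 6, nat_lit 5, nat_lit 0, nat_lit 1, nat_lit 2, nat_lit 7, nat_lit 3, nat_lit 6, nat_lit 5, nat_lit 0, nat_lit 1, nat_lit 2, nat_lit 7, nat_lit 3, nat_lit 6, nat_lit 5, nat_lit 0, nat_lit 1, nat_lit 2, nat_lit 7, nat_lit 3, nat_lit 6, nat_lit 5, nat_lit 0, nat_lit 1, nat_lit 2, nat_lit 7, nat_lit 3, nat_lit 6, nat_lit 5, nat_lit 0, nat_lit 1, nat_lit 2] else [nat_lit 63, nat_lit 6, nat_lit 4, nat_lit 6, nat_lit 4]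
def Wt_56_59 (j : ℕ) : List ℕ := bif Nat.blt j 57 then [nat_lit 5, nat_lit 4, nat_lit 5, nat_lit 4] else (Wt_57_59 j)
def Wt_54_59 (j : ℕ) : List ℕ := bif Nat.blt j 56 then (Wt_54_56 j) else (Wt_56_59 j)
def Wt_60_62 (j : ℕ) : List ℕ := bif Nat.blt j 61 then [nat_lit 63, nat_lit 1, nat_lit 63, nat_lit 1] else [nat_lit 63, nat_lit 0, nat_lit 63, nat_lit 0]
def Wt_59_62 (j : ℕ) : List ℕ := bif Nat.blt j 60 then [nat_lit 63, nat_lit 2, nat_lit 63, nat_lit 2] else (Wt_60_62 j)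
def Wt_63_65 (j : ℕ) : List ℕ := bif Nat.blt j 64 then [nat_lit 63, nat_lit 5, nat_lit 63, nat_lit 5] else [nat_lit 63, nat_lit 4, nat_lit 63, nat_lit 4]
def Wt_62_65 (j : ℕ) : List ℕ := bif Nat.blt j 63 then [nat_lit 63, nat_lit 3, nat_lit 63, nat_lit 3] else (Wt_63_65 j)
def Wt_59_65 (j : ℕ) : List ℕ := bif Nat.blt j 62 then (Wt_59_62 j) else (Wt_62_65 j)
def Wt_54_65 (j : ℕ) : List ℕ := bif Nat.blt j 59 then (Wt_54_59 j) else (Wt_59_65 j)
def Wt_43_65 (j : ℕ) : List ℕ := bif Nat.blt j 54 then (Wt_43_54 j) else (Wt_54_65 j)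
def Wt_65_67 (j : ℕ) : List ℕ := bif Nat.blt j 66 then [nat_lit 4, nat_lit 4, nat_lit 63] else [nat_lit 63, nat_lit 7, nat_lit 63, nat_lit 7]
def Wt_68_70 (j : ℕ) : List ℕ := bif Nat.blt j 69 then [nat_lit 0, nat_lit 0, nat_lit 63] else [nat_lit 5, nat_lit 5, nat_lit 63]
def Wt_67_70 (j : ℕ) : List ℕ := bif Nat.blt j 68 then [nat_lit 3, nat_lit 3, nat_lit 63] else (Wt_68_70 j)
def Wt_65_70 (j : ℕ) : List ℕ := bif Nat.blt j 67 then (Wt_65_67 j) else (Wt_67_70 j)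
def Wt_71_73 (j : ℕ) : List ℕ := bif Nat.blt j 72 then [nat_lit 63, nat_lit 6, nat_lit 63, nat_lit 6] else [nat_lit 2, nat_lit 2, nat_lit 63]
def Wt_70_73 (j : ℕ) : List ℕ := bif Nat.blt j 71 then [nat_lit 1, nat_lit 1, nat_lit 63] else (Wt_71_73 j)
def Wt_74_76 (j : ℕ) : List ℕ := bif Nat.blt j 75 then [nat_lit 63, nat_lit 6, nat_lit 63, nat_lit 6, nat_lit 63] else [nat_lit 63, nat_lit 5, nat_lit 63, nat_lit 5, nat_lit 63]
def Wt_73_76 (j : ℕ) : List ℕ := bif Nat.blt j 74 then [nat_lit 63, nat_lit 63, nat_lit 63] else (Wt_74_76 j)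
def Wt_70_76 (j : ℕ) : List ℕ := bif Nat.blt j 73 then (Wt_70_73 j) else (Wt_73_76 j)
def Wt_65_76 (j : ℕ) : List ℕ := bif Nat.blt j 70 then (Wt_65_70 j) else (Wt_70_76 j)
def Wt_76_78 (j : ℕ) : List ℕ := bif Nat.blt j 77 then [nat_lit 6, nat_lit 6, nat_lit 63] else [nat_lit 63, nat_lit 0, nat_lit 63, nat_lit 0, nat_lit 63]
def Wt_79_81 (j : ℕ) : List ℕ := bif Nat.blt j 80 then [nat_lit 63, nat_lit 4, nat_lit 63, nat_lit 4, nat_lit 63] else [nat_lit 63, nat_lit 2, nat_lit 63, nat_lit 2, nat_lit 63]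
def Wt_78_81 (j : ℕ) : List ℕ := bif Nat.blt j 79 then [nat_lit 63, nat_lit 1, nat_lit 63, nat_lit 1, nat_lit 63] else (Wt_79_81 j)
def Wt_76_81 (j : ℕ) : List ℕ := bif Nat.blt j 78 then (Wt_76_78 j) else (Wt_78_81 j)
def Wt_82_84 (j : ℕ) : List ℕ := bif Nat.blt j 83 then [nat_lit 63, nat_lit 63, nat_lit 4, nat_lit 63, nat_lit 4] else [nat_lit 63, nat_lit 3, nat_lit 63, nat_lit 3, nat_lit 63]
def Wt_81_84 (j : ℕ) : List ℕ := bif Nat.blt j 82 then [nat_lit 63, nat_lit 7, nat_lit 63, nat_lit 7, nat_lit 63] else (Wt_82_84 j)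
def Wt_85_87 (j : ℕ) : List ℕ := bif Nat.blt j 86 then [nat_lit 4, nat_lit 63, nat_lit 4, nat_lit 63] else [nat_lit 5, nat_lit 63, nat_lit 5, nat_lit 63]
def Wt_84_87 (j : ℕ) : List ℕ := bif Nat.blt j 85 then [nat_lit 7, nat_lit 7, nat_lit 63] else (Wt_85_87 j)
def Wt_81_87 (j : ℕ) : List ℕ := bif Nat.blt j 84 then (Wt_81_84 j) else (Wt_84_87 j)
def Wt_76_87 (j : ℕ) : List ℕ := bif Nat.blt j 81 then (Wt_76_81 j) else (Wt_81_87 j)
def Wt_65_87 (j : ℕ) : List ℕ := bif Nat.blt j 76 then (Wt_65_76 j) else (Wt_76_87 j)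
def Wt_43_87 (j : ℕ) : List ℕ := bif Nat.blt j 65 then (Wt_43_65 j) else (Wt_65_87 j)
def Wt_0_87 (j : ℕ) : List ℕ := bif Nat.blt j 43 then (Wt_0_43 j) else (Wt_43_87 j)
def Wt (j : ℕ) : List ℕ := (Wt_0_87 j)
def W (j : ℕ) : List ℕ := bif Nat.blt j 87 then Wt j else []
theorem W_ge (j : ℕ) (h : 87 ≤ j) : W j = [] := by
  unfold W
  rw [blt_false_of_le h]
  rfl
def Hl : List ℕ := [nat_lit 0, nat_lit 1, nat_lit 2, nat_lit 3, nat_lit 4, nat_lit 5, nat_lit 6]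
def isH (y : ℕ) : Bool := List.elem y Hl
def Rb : List (List ℕ) := [[nat_lit 0, nat_lit 0],
  [nat_lit 1, nat_lit 1],
  [nat_lit 1, nat_lit 0, nat_lit 1, nat_lit 0, nat_lit 1, nat_lit 0],
  [nat_lit 2, nat_lit 2],
  [nat_lit 2, nat_lit 0, nat_lit 2, nat_lit 0],
  [nat_lit 2, nat_lit 1, nat_lit 2, nat_lit 1, nat_lit 2, nat_lit 1],
  [nat_lit 3, nat_lit 3],
  [nat_lit 3, nat_lit 0, nat_lit 3, nat_lit 0, nat_lit 3, nat_lit 0],
  [nat_lit 3, nat_lit 1, nat_lit 3, nat_lit 1],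
  [nat_lit 3, nat_lit 2, nat_lit 3, nat_lit 2],
  [nat_lit 4, nat_lit 4],
  [nat_lit 4, nat_lit 0, nat_lit 4, nat_lit 0],
  [nat_lit 4, nat_lit 1, nat_lit 4, nat_lit 1],
  [nat_lit 4, nat_lit 2, nat_lit 4, nat_lit 2],
  [nat_lit 4, nat_lit 3, nat_lit 4, nat_lit 3, nat_lit 4, nat_lit 3],
  [nat_lit 5, nat_lit 5],
  [nat_lit 5, nat_lit 0, nat_lit 5, nat_lit 0, nat_lit 5, nat_lit 0],
  [nat_lit 5, nat_lit 1, nat_lit 5, nat_lit 1],
  [nat_lit 5, nat_lit 2, nat_lit 5, nat_lit 2],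
  [nat_lit 5, nat_lit 3, nat_lit 5, nat_lit 3],
  [nat_lit 5, nat_lit 4, nat_lit 5, nat_lit 4],
  [nat_lit 6, nat_lit 6],
  [nat_lit 6, nat_lit 0, nat_lit 6, nat_lit 0],
  [nat_lit 6, nat_lit 1, nat_lit 6, nat_lit 1],
  [nat_lit 6, nat_lit 2, nat_lit 6, nat_lit 2],
  [nat_lit 6, nat_lit 3, nat_lit 6, nat_lit 3],
  [nat_lit 6, nat_lit 4, nat_lit 6, nat_lit 4],
  [nat_lit 6, nat_lit 5, nat_lit 6, nat_lit 5, nat_lit 6, nat_lit 5],
  [nat_lit 4, nat_lit 3, nat_lit 0, nat_lit 2, nat_lit 1, nat_lit 0, nat_lit 6, nat_lit 5, nat_lit 0, nat_lit 4, nat_lit 3, nat_lit 0, nat_lit 2, nat_lit 1, nat_lit 0, nat_lit 6, nat_lit 5, nat_lit 0, nat_lit 4, nat_lit 3, nat_lit 0, nat_lit 2, nat_lit 1, nat_lit 0, nat_lit 6, nat_lit 5, nat_lit 0, nat_lit 4, nat_lit 3, nat_lit 0, nat_lit 2, nat_lit 1, nat_lit 0, nat_lit 6, nat_lit 5, nat_lit 0, nat_lit 4, nat_lit 3, nat_lit 0, nat_lit 2, nat_lit 1, nat_lit 0,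 nat_lit 6, nat_lit 5, nat_lit 0, nat_lit 4, nat_lit 3, nat_lit 0, nat_lit 2, nat_lit 1, nat_lit 0, nat_lit 6, nat_lit 5, nat_lit 0, nat_lit 4, nat_lit 3, nat_lit 0, nat_lit 2, nat_lit 1, nat_lit 0, nat_lit 6, nat_lit 5, nat_lit 0, nat_lit 4, nat_lit 3, nat_lit 0, nat_lit 2, nat_lit 1, nat_lit 0, nat_lit 6, nat_lit 5, nat_lit 0, nat_lit 4, nat_lit 3, nat_lit 0, nat_lit 2, nat_lit 1, nat_lit 0, nat_lit 6, nat_lit 5, nat_lit 0, nat_lit 4, nat_lit 3, nat_lit 0, nat_lit 2, nat_lit 1, nat_lit 0, nat_lit 6, nat_lit 5, nat_lit 0],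
  [nat_lit 7, nat_lit 7],
  [nat_lit 7, nat_lit 0, nat_lit 7, nat_lit 0],
  [nat_lit 7, nat_lit 1, nat_lit 7, nat_lit 1],
  [nat_lit 7, nat_lit 2, nat_lit 7, nat_lit 2, nat_lit 7, nat_lit 2],
  [nat_lit 7, nat_lit 3, nat_lit 7, nat_lit 3],
  [nat_lit 7, nat_lit 4, nat_lit 7, nat_lit 4],
  [nat_lit 7, nat_lit 5, nat_lit 7, nat_lit 5],
  [nat_lit 7, nat_lit 6, nat_lit 7, nat_lit 6],
  [nat_lit 3, nat_lit 7, nat_lit 2, nat_lit 1, nat_lit 0, nat_lit 5, nat_lit 6, nat_lit 3, nat_lit 7, nat_lit 2, nat_lit 1, nat_lit 0, nat_lit 5, nat_lit 6, nat_lit 3, nat_lit 7, nat_lit 2, nat_lit 1, nat_lit 0, nat_lit 5, nat_lit 6, nat_lit 3, nat_lit 7, nat_lit 2, nat_lit 1, nat_lit 0, nat_lit 5, nat_lit 6, nat_lit 3, nat_lit 7, nat_lit 2, nat_lit 1, nat_lit 0, nat_lit 5, nat_lit 6, nat_lit 3, nat_lit 7, nat_lit 2, nat_lit 1, nat_lit 0, nat_lit 5, nat_lit 6, nat_lit 3, nat_lit 7, nat_lit 2, nat_lit 1, nat_lit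 0, nat_lit 5, nat_lit 6, nat_lit 3, nat_lit 7, nat_lit 2, nat_lit 1, nat_lit 0, nat_lit 5, nat_lit 6, nat_lit 3, nat_lit 7, nat_lit 2, nat_lit 1, nat_lit 0, nat_lit 5, nat_lit 6],
  []]
def spT_0_2 (j : ℕ) : ℕ := bif Nat.blt j 1 then nat_lit 0x1e0000000c000000000000000200000006000000340000c04b000020280000404a00000040000020360000000a000020260000201c0000000400000032000020200000200e000020480000003600000034000000300000002e0000002c0000002600002044000020340000001c0000001a00000018000000160000204600000028000000240000002200000020000020420000203200000012000000100000000e0000203c0000202c0000201600002008000020040000203e0000202e0000202200002018000020100000200a0000204000002030000020240000201a0000201200000008000000480000004600000044000000420000003e0000003c else nat_lit 0x1e000000140000003a0000000c000000140000003a000000060000001400000002000000000000002a0000001e0000002a0000004c000000060000002a000000020000001e000000000000000c0000003a0000001400000014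
def spT (j : ℕ) : ℕ := (spT_0_2 j)
def sp (j : ℕ) : ℕ := Nat.land (Nat.shiftRight (spT (Nat.shiftRight j 6)) (Nat.mul (Nat.land j 63) 32)) 4294967295
theorem Eo_lt (r : ℕ) : Eo r < 18014398509481984 := land54_lt _
def cT_1_3 (j : ℕ) : ℕ := bif Nat.blt j 2 then nat_lit 0x15300015200015100014f00014e00014d00014b00014900014800014700014000013f00013e00013d00013c00013800013700013500013400013300013200013100012300012200012100012000011f00011e00011d00011c00011b00011a00011900011800011600011300011200011100011000010f00010e00010b00010a0001080001070001060001020001010000ff0000fe0000fd0000f20000f10000f00000ef0000ee0000ed0000ec0000eb0000ea0000e90000e70000e60000e50000e40000e30000e20000e10000e00000df0000de0000dd0000dc0000d90000d80000d70000d60000d20000d10000d00000cf0000c80000c70000c60000c50000c40000c30000c20000c10000c00000be0000bd0000bc0000bb0000ba0000b90000b80000b70000b60000b50000b40000b30000b10000af0000ae0000ac0000aa0000a90000a40000a30000a20000a10000a000009f00009e00009d00009c00009b00009a000099000098000097000096000095000094000093000092000091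 else nat_lit 0x2d20002c30002c10002b10002af0002aa0002a300029a00029700029500027e00027a00027900027700027500027100026800025b00025800025600025400025300023500023200023000022f00022d00022c00022a00022900022700021d00021b00021800020f00020d00020b00020a0002080002070002060001e60001e50001e30001e20001e10001e00001df0001de0001dd0001dc0001db0001da0001d90001d80001d70001d60001d40001c90001c80001c60001c50001be0001bc0001bb0001ba0001b80001b70001b60001b500019b00019a00019900019800019700019600019500019400019300019200019100019000018f00018e00018b00018a00018800018200018000017d00017c00017b00017500017300017200017100017000016f00016e00015c00015b00015a000159000158000157000156000155000154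
def cT_0_3 (j : ℕ) : ℕ := bif Nat.blt j 1 then nat_lit 0x9000008e00008d00008b00008a00008600008500008400008300008200008100008000007f00007e00007d00007c00007b00007a00007900007800007700007600007400007200006e00006d00006c00006b00006a00006900006800006700006600006500006400006300006200006100006000005e00005c00005900005800005700005600005500005400005300005200005100005000004f00004e00004d00004c00004a00004800004600004500004400004300004200004100004000003f00003e00003d00003c00003b00003a00003900003800003700003600003500003400003300003200003100003000002f00002e00002d00002c00002b00002a00002900002800002700002600002500002400002300002200002100002000001f00001e00001d00001c00001b00001a00001900001800001700001600001500001400001300001200001100001000000f00000e00000d00000c00000b00000a000009000008000007000006000005000004000003000002000001000000 else (cT_1_3 j)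
def cT (j : ℕ) : ℕ := (cT_0_3 j)
noncomputable def cChunk (h : ℕ) : ℕ := Nat.rec (motive := fun _ => ℕ) (cT 0) (fun n _ => cT (Nat.succ n)) h
noncomputable def cF (i : ℕ) : ℕ := Nat.land (Nat.shiftRight (cChunk (Nat.shiftRight i 7)) (Nat.mul (Nat.land i 127) 24)) 16777215
theorem cF_lt (i : ℕ) : cF i < 16777216 := land24_lt _
theorem cF_zero : cF 0 = 0 := by decide +kernel
def nDef : ℕ := 725
def nEv : ℕ := 3082
def nW : ℕ := 87
def N : ℕ := 364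
def ys : List ℕ := [nat_lit 0, nat_lit 1, nat_lit 2, nat_lit 3, nat_lit 4, nat_lit 5, nat_lit 6, nat_lit 7]
end Cfsg.Agent.Lib.ToddCox.O73T
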