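import Cfsg.Agent.Lib.ToddCox.O73T.TabD0
set_option autoImplicit false
set_option maxRecDepth 100000
namespace Cfsg.Agent.Lib.ToddCox.O73T
def tT_0_2 (j : ℕ) : ℕ := bif Nat.blt j 1 then T_0 else T_1
def tT_2_4 (j : ℕ) : ℕ := bif Nat.blt j 3 then T_2 else T_3
def tT_0_4 (j : ℕ) : ℕ := bif Nat.blt j 2 then (tT_0_2 j) else (tT_2_4 j)
def tT_4_6 (j : ℕ) : ℕ := bif Nat.blt j 5 then T_4 else T_5
def tT_6_8 (j : ℕ) : ℕ := bif Nat.blt j 7 then T_6 else T_7
def tT_4_8 (j : ℕ) : ℕ := bif Nat.blt j 6 then (tT_4_6 j) else (tT_6_8 j)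
def tT_0_8 (j : ℕ) : ℕ := bif Nat.blt j 4 then (tT_0_4 j) else (tT_4_8 j)
def tT_8_10 (j : ℕ) : ℕ := bif Nat.blt j 9 then T_8 else T_9
def tT_10_12 (j : ℕ) : ℕ := bif Nat.blt j 11 then T_10 else T_11
def tT_8_12 (j : ℕ) : ℕ := bif Nat.blt j 10 then (tT_8_10 j) else (tT_10_12 j)
def tT_12_14 (j : ℕ) : ℕ := bif Nat.blt j 13 then T_12 else T_13
def tT_14_16 (j : ℕ) : ℕ := bif Nat.blt j 15 then T_14 else T_15
def tT_12_16 (j : ℕ) : ℕ := bif Nat.blt j 14 then (tT_12_14 j) else (tT_14_16 j)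
def tT_8_16 (j : ℕ) : ℕ := bif Nat.blt j 12 then (tT_8_12 j) else (tT_12_16 j)
def tT_0_16 (j : ℕ) : ℕ := bif Nat.blt j 8 then (tT_0_8 j) else (tT_8_16 j)
def tT (j : ℕ) : ℕ := (tT_0_16 j)
noncomputable def tC (h : ℕ) : ℕ := Nat.rec (motive := fun _ => ℕ) (tT 0) (fun n _ => tT (Nat.succ n)) h
noncomputable def tab (y i : ℕ) : ℕ := Nat.land (Nat.shiftRight (tC (Nat.add (Nat.mul y 2) (Nat.shiftRight i 8))) (Nat.mul (Nat.land i 255) 18)) 262143
def prT_1_3 (j : ℕ) : ℕ := bif Nat.blt j 2 then nat_lit 0x60000f90c0000f80a0000f7080000f70a0000f6060000f6040000f60a0000f5060000f5020000f5000000f41c000049000000e9000000e8020000e6000000e5060000e4000000e30a0000e2000000e2000000e1000000dd0a0000dc060000dc000000da000000d90a0000d7000000d60a0000d5060000d50a0000d0080000d00a0000cc060000cc0a0000cb080000cb020000ca060000c80a0000c60a0000c4060000c40a0000c3080000c30a0000c0080000c00a0000bc080000bc020000bc0a0000ba060000ba0a0000b8080000b8020000b8000000b6060000b3080000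b20a0000b0060000b00a0000ae080000ae020000ae0a0000a8080000a8020000a80a0000a6080000a6080000a5000000a50a0000a3080000a3080000a2000000a2000000a1060000a00400009f0600009e0800009c0200009c0a00009a0800009a08000099000000990a000095080000950a00009308000093080000920000009208000090000000900600008f0800008d0000008d0600008c0600008a0400008a020000890800008608000085000000850800008300000083060000820a00007e0800007e0800007d0000007d0800007b0000007b0600007a0800007906000078040000780800007706000076040000760600007502000075000000740800006e0800006c0000006c0600006b0800006a06000069040000690a00006708000067 else nat_lit 0x1660c00016208000162020001600c00015c0a00015c0200015b0c0001560800015602000156020001550000014f0a00014e0c00014d0a00014d0200014d0000014a0c000147080001470c00014508000145000001450000014300000142000001410a0001400c00013f0a00013f0a00013e0c00013d0000013d000001390c000138060001380c00013408000134000001340c00013306000133000001310a0001300a00012e0a00012d0c00012c0000012c0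c00012b0600012b0c000128060001280c00012506000125040001250c000123080001230c0001220600012204000122040001210a00011f0c00011e0a00011d0c00011c0c00011b0600011b0400011b0c00011806000118040001180c00011606000116020001160c0001140600011402000114020001130a0001120c000111040001110c00010f0600010f0200010f0c00010c0600010c0200010c0c00010b0000010b0c00010a0000010a000001090c000107020001070c00010600000106060001040c000103000001030a0001020a0001010a0000ff0c0000fd000000fd0a0000fc0c0000fb000000fb0a0000fa080000fa000000fa0a0000f9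
def prT_0_3 (j : ℕ) : ℕ := bif Nat.blt j 1 then nat_lit 0x80000650000006506000064080000630600006204000062060000610200006106000060020000600000005f0a00005e0c00005d0800005d0a00005b0800005b08000059060000580800005706000056040000560600005502000055080000530000005308000052060000510400005106000050020000500000004f0000004e0a00004d0c00004c0600004c0800004a0000004a08000047060000460400004606000045020000450000004408000043060000420600004102000041000000400a00003f0a00003e0c00003d0000003d0800003b0600003a04000039080000380600003702000037000000360a0000350600003402000034000000330a0000320c0000310c0000300a0000300800002f0600002e0200002e0200002d0600002c0000002b0a00002a0c000029000000280a0000270c0000260a00002602000026060000250000002400000023000000220a0000210c0000200a0000200a00001f0c00001e0000001e0000001d0a00001c0a00001a0a0000190c000018000000180c000017060000170a0000150c0000140a0000130c0000120c00001106000011040000110a0000100c00000f0400000f0c00000d0600000d0200000d0c00000b0200000b0c00000a0000000a0c000008000000080a0000070c0000060a000005080000050a000004060000040000000302000002040000011c00000000000000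 else (prT_1_3 j)
def prT (j : ℕ) : ℕ := (prT_0_3 j)
noncomputable def prC (h : ℕ) : ℕ := Nat.rec (motive := fun _ => ℕ) (prT 0) (fun n _ => prT (Nat.succ n)) h
noncomputable def pr (i : ℕ) : ℕ := Nat.land (Nat.shiftRight (prC (Nat.shiftRight i 7)) (Nat.mul (Nat.land i 127) 32)) 4294967295
def invR (y : ℕ) : ℕ := invOf 0x1c61440c2040 y
def Rc : List (List ℕ) := [[nat_lit 0, nat_lit 0],
  [nat_lit 1, nat_lit 1],
  [nat_lit 1, nat_lit 0, nat_lit 1, nat_lit 0, nat_lit 1, nat_lit 0],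
  [nat_lit 2, nat_lit 2],
  [nat_lit 2, nat_lit 0, nat_lit 2, nat_lit 0],
  [nat_lit 2, nat_lit 1, nat_lit 2, nat_lit 1, nat_lit 2, nat_lit 1],
  [nat_lit 3, nat_lit 3],
  [nat_lit 3, nat_lit 0, nat_lit 3, nat_lit 0, nat_lit 3, nat_lit 0],
  [nat_lit 3, nat_lit 1, nat_lit 3, nat_lit 1],
  [nat_lit 3, nat_lit 2, nat_lit 3, nat_lit 2],
  [nat_lit 4, nat_lit 4],
  [nat_lit 4, nat_lit 0, nat_lit 4, nat_lit 0],
  [nat_lit 4, nat_lit 1, nat_lit 4, nat_lit 1],
  [nat_lit 4, nat_lit 2, nat_lit 4, nat_lit 2],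
  [nat_lit 4, nat_lit 3, nat_lit 4, nat_lit 3, nat_lit 4, nat_lit 3],
  [nat_lit 5, nat_lit 5],
  [nat_lit 5, nat_lit 0, nat_lit 5, nat_lit 0, nat_lit 5, nat_lit 0],
  [nat_lit 5, nat_lit 1, nat_lit 5, nat_lit 1],
  [nat_lit 5, nat_lit 2, nat_lit 5, nat_lit 2],
  [nat_lit 5, nat_lit 3, nat_lit 5, nat_lit 3],
  [nat_lit 5, nat_lit 4, nat_lit 5, nat_lit 4],
  [nat_lit 6, nat_lit 6],
  [nat_lit 6, nat_lit 0, nat_lit 6, nat_lit 0],
  [nat_lit 6, nat_lit 1, nat_lit 6, nat_lit 1],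
  [nat_lit 6, nat_lit 2, nat_lit 6, nat_lit 2],
  [nat_lit 6, nat_lit 3, nat_lit 6, nat_lit 3],
  [nat_lit 6, nat_lit 4, nat_lit 6, nat_lit 4],
  [nat_lit 6, nat_lit 5, nat_lit 6, nat_lit 5, nat_lit 6, nat_lit 5],
  [nat_lit 4, nat_lit 3, nat_lit 0, nat_lit 2, nat_lit 1, nat_lit 0, nat_lit 6, nat_lit 5, nat_lit 0, nat_lit 4, nat_lit 3, nat_lit 0, nat_lit 2, nat_lit 1, nat_lit 0, nat_lit 6, nat_lit 5, nat_lit 0, nat_lit 4, nat_lit 3, nat_lit 0, nat_lit 2, nat_lit 1, nat_lit 0, nat_lit 6, nat_lit 5, nat_lit 0, nat_lit 4, nat_lit 3, nat_lit 0, nat_lit 2, nat_lit 1, nat_lit 0, nat_lit 6, nat_lit 5, nat_lit 0, nat_lit 4, nat_lit 3, nat_lit 0, nat_lit 2, nat_lit 1, nat_lit 0, nat_lit 6, nat_lit 5, nat_lit 0, nat_lit 4, nat_lit 3, nat_lit 0, nat_lit 2, nat_lit 1, nat_lit 0, nat_lit 6, nat_lit 5, nat_lit 0, nat_lit 4, nat_lit 3, nat_lit 0, nat_lit 2, nat_lit 1, nat_lit 0, nat_lit 6, nat_lit 5, nat_lit 0, nat_lit 4, nat_lit 3, nat_lit 0, nat_lit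 2, nat_lit 1, nat_lit 0, nat_lit 6, nat_lit 5, nat_lit 0, nat_lit 4, nat_lit 3, nat_lit 0, nat_lit 2, nat_lit 1, nat_lit 0, nat_lit 6, nat_lit 5, nat_lit 0, nat_lit 4, nat_lit 3, nat_lit 0, nat_lit 2, nat_lit 1, nat_lit 0, nat_lit 6, nat_lit 5, nat_lit 0],
  [nat_lit 7, nat_lit 7],
  [nat_lit 7, nat_lit 0, nat_lit 7, nat_lit 0],
  [nat_lit 7, nat_lit 1, nat_lit 7, nat_lit 1],
  [nat_lit 7, nat_lit 2, nat_lit 7, nat_lit 2, nat_lit 7, nat_lit 2],
  [nat_lit 7, nat_lit 3, nat_lit 7, nat_lit 3],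
  [nat_lit 7, nat_lit 4, nat_lit 7, nat_lit 4],
  [nat_lit 7, nat_lit 5, nat_lit 7, nat_lit 5],
  [nat_lit 7, nat_lit 6, nat_lit 7, nat_lit 6],
  [nat_lit 3, nat_lit 7, nat_lit 2, nat_lit 1, nat_lit 0, nat_lit 5, nat_lit 6, nat_lit 3, nat_lit 7, nat_lit 2, nat_lit 1, nat_lit 0, nat_lit 5, nat_lit 6, nat_lit 3, nat_lit 7, nat_lit 2, nat_lit 1, nat_lit 0, nat_lit 5, nat_lit 6, nat_lit 3, nat_lit 7, nat_lit 2, nat_lit 1, nat_lit 0, nat_lit 5, nat_lit 6, nat_lit 3, nat_lit 7, nat_lit 2, nat_lit 1, nat_lit 0, nat_lit 5, nat_lit 6, nat_lit 3, nat_lit 7, nat_lit 2, nat_lit 1, nat_lit 0, nat_lit 5, nat_lit 6, nat_lit 3, nat_lit 7, nat_lit 2, nat_lit 1, nat_lit 0, nat_lit 5, nat_lit 6, nat_lit 3, nat_lit 7, nat_lit 2, nat_lit 1, nat_lit 0, nat_lit 5, nat_lit 6, nat_lit 3, nat_lit 7, nat_lit 2, nat_lit 1, nat_lit 0, nat_lit 5, nat_lit 6]]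
def Tw : List (List ℕ) := [[nat_lit 0],
  [nat_lit 1],
  [nat_lit 2],
  [nat_lit 3],
  [nat_lit 4],
  [nat_lit 5],
  [nat_lit 6],
  [nat_lit 0],
  [nat_lit 1],
  [nat_lit 2],
  [nat_lit 3],
  [nat_lit 4],
  [nat_lit 5],
  [nat_lit 6],
  [nat_lit 7]]
def Sw : List (List ℕ) := [[nat_lit 0],
  [nat_lit 1],
  [nat_lit 2],
  [nat_lit 3],
  [nat_lit 4],
  [nat_lit 5],
  [nat_lit 6]]
def ysR : List ℕ := [nat_lit 0, nat_lit 1, nat_lit 2, nat_lit 3, nat_lit 4, nat_lit 5, nat_lit 6, nat_lit 7]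
noncomputable def chkAll (i : ℕ) : Bool := bif Nat.blt i 364 then and (chkPt tab invR 364 ysR Rc i) (bif Nat.beq i 0 then true else chkReachPt tab Tw i (pr i)) else true
end Cfsg.Agent.Lib.ToddCox.O73T
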